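import Cfsg.Agent.Lib.CoverL34.Model
import Cfsg.Agent.Lib.Cores.Gaschutz
import Cfsg.Prelude.Def_CaseTheorems

/-!
# Preimages of the translation groups in central extensions by 2-groups
-/

set_option autoImplicit false
set_option linter.style.haveILetI false

namespace Cfsg.Agent.Lib.CoverL34

variable {X L : Type*} [Group X] [Finite X] [Group L] {π : X →* L}

omit [Finite X] in
/-- A central extension of an elementary abelian group of order 16 with a transitive group acting
is elementary abelian. -/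
theorem isElementaryAbelian_lift {F : Type*} [Field F] (hπ : Function.Surjective π)
    (hker : π.ker = Subgroup.center X) (hZ : ∀ z ∈ Subgroup.center X, z ^ 2 = 1) {H : Subgroup X}
    (hZH : Subgroup.center X ≤ H) (hsq : ∀ x ∈ H.map π, x ^ 2 = 1) (hgood : Good F (H.map π)) :
    Cfsg.IsElementaryAbelian 2 H := by
  classical
  have hcentral : ∀ z ∈ Subgroup.center X, ∀ x : X, x * z = z * x := fun z hz x =>
    Subgroup.mem_center_iff.1 hz x
  have hsqZ : ∀ h ∈ H, h * h ∈ Subgroup.center X := fun h hh => by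
    rw [← hker, MonoidHom.mem_ker, map_mul, ← pow_two]
    exact hsq _ (Subgroup.mem_map_of_mem π hh)
  have hconst : ∀ h ∈ H, ∀ k ∈ H, π h ≠ 1 → π k ≠ 1 → h * h = k * k := by
    intro h hh k hk h1 k1
    obtain ⟨g, -, hgk⟩ := hgood.trans _ (Subgroup.mem_map_of_mem π hh) _
      (Subgroup.mem_map_of_mem π hk) h1 k1
    obtain ⟨g, rfl⟩ := hπ g
    obtain ⟨z, hz, rfl⟩ : ∃ z ∈ Subgroup.center X, k = g * h * g⁻¹ * z := by
      refine ⟨(g * h * g⁻¹)⁻¹ * k, ?_, by group⟩
      rw [← hker, MonoidHom.mem_ker, map_mul, map_inv, map_mul, map_mul, map_inv, hgk, inv_mul_cancel]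
    calc h * h = g * (h * h) * g⁻¹ := by
          rw [hcentral _ (hsqZ h hh) g, mul_inv_cancel_right]
      _ = g * h * g⁻¹ * (g * h * g⁻¹) * z ^ 2 := by rw [hZ z hz, mul_one]; group
      _ = g * h * g⁻¹ * ((g * h * g⁻¹) * z) * z := by rw [pow_two]; group
      _ = g * h * g⁻¹ * z * (g * h * g⁻¹ * z) := by
          rw [show g * h * g⁻¹ * z * (g * h * g⁻¹ * z) = g * h * g⁻¹ * (z * (g * h * g⁻¹)) * z by group,
            ← hcentral z hz (g * h * g⁻¹)]
  haveI : Finite (H.map π) := Nat.finite_of_card_ne_zero (by rw [hgood.card]; norm_num)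
  -- choose three independent elements
  have hex : ∀ A : Subgroup L, A ≤ H.map π → Nat.card A < 16 → ∃ x ∈ H, π x ∉ A := by
    intro A hA hlt
    by_contra hcon
    push Not at hcon
    have heq : A = H.map π := le_antisymm hA (by rintro _ ⟨x, hx, rfl⟩; exact hcon x hx)
    rw [heq, hgood.card] at hlt
    omega
  obtain ⟨a, ha, ha1⟩ := hex ⊥ bot_le (by rw [Subgroup.card_bot]; norm_num)
  have ha1' : π a ≠ 1 := fun h => ha1 (h ▸ one_mem _)
  have hcard2 : Nat.card (Subgroup.zpowers (π a)) ≤ 2 := by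
    rw [Nat.card_zpowers]
    exact orderOf_le_of_pow_eq_one two_pos (hsq _ (Subgroup.mem_map_of_mem π ha))
  obtain ⟨b, hb, hb1⟩ := hex (Subgroup.zpowers (π a))
    (Subgroup.zpowers_le.2 (Subgroup.mem_map_of_mem π ha)) (by omega)
  have hb1' : π b ≠ 1 := fun h => hb1 (h ▸ one_mem _)
  have hab : π (a * b) ≠ 1 := fun h => hb1 (by
    rw [map_mul] at h
    rw [eq_inv_of_mul_eq_one_right h]
    exact inv_mem (Subgroup.mem_zpowers _))
  have hcomm : ∀ x ∈ H, ∀ y ∈ H, ∃ z ∈ Subgroup.center X, y * x = x * y * z := by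
    intro x hx y hy
    refine ⟨(x * y)⁻¹ * (y * x), ?_, by group⟩
    have hc : π x * π y = π y * π x := by
      have e1 := hsq _ (mul_mem (Subgroup.mem_map_of_mem π hx) (Subgroup.mem_map_of_mem π hy))
      have e2 := hsq _ (Subgroup.mem_map_of_mem π hx)
      have e3 := hsq _ (Subgroup.mem_map_of_mem π hy)
      rw [pow_two] at e1 e2 e3
      calc π x * π y = (π x * π y)⁻¹ := eq_inv_of_mul_eq_one_left e1
        _ = π y * π x := by
          rw [mul_inv_rev, inv_eq_of_mul_eq_one_right e2, inv_eq_of_mul_eq_one_right e3]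
    rw [← hker, MonoidHom.mem_ker, map_mul, map_inv, map_mul, map_mul, hc, inv_mul_cancel]
  set c := a * a
  have hc2 : c ∈ Subgroup.center X := hsqZ a ha
  have hall : ∀ h ∈ H, π h ≠ 1 → h * h = c := fun h hh h1 => hconst h hh a ha h1 ha1'
  have hpair : ∀ x ∈ H, ∀ y ∈ H, π x ≠ 1 → π y ≠ 1 → π (x * y) ≠ 1 → y * x = x * y * c := by
    intro x hx y hy x1 y1 xy1
    obtain ⟨z, hz, e⟩ := hcomm x hx y hy
    have e1 : x * y * (x * y) = c := hall _ (mul_mem hx hy) xy1
    have e2 : x * y * (x * y) = z * (c * c) := by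
      calc x * y * (x * y) = x * (y * x) * y := by group
        _ = x * (x * y * z) * y := by rw [e]
        _ = x * x * y * (z * y) := by group
        _ = x * x * y * (y * z) := by rw [hcentral z hz y]
        _ = (x * x) * (y * y) * z := by group
        _ = c * c * z := by rw [hall x hx x1, hall y hy y1]
        _ = z * (c * c) := hcentral z hz _
    rw [← pow_two c, hZ c hc2, mul_one, e1] at e2
    rw [e, ← e2]
  obtain ⟨d, hd, hd1⟩ := hex (Subgroup.closure {π a, π b})
    ((Subgroup.closure_le _).2 (by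
      rintro _ (rfl | rfl)
      exacts [Subgroup.mem_map_of_mem π ha, Subgroup.mem_map_of_mem π hb])) (by
    have hc := hcomm a ha b hb
    have hsub : (Subgroup.closure {π a, π b} : Set L) ⊆
        ({1, π a, π b, π a * π b} : Finset L) := by
      intro x hx
      have hab' : π b * π a = π a * π b := by
        obtain ⟨z, hz, e⟩ := hc
        rw [← map_mul, e, map_mul, show π z = 1 from MonoidHom.mem_ker.1 (hker.symm ▸ hz), mul_one, map_mul]
      have a2 : π a * π a = 1 := by rw [← pow_two]; exact hsq _ (Subgroup.mem_map_of_mem π ha)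
      have b2 : π b * π b = 1 := by rw [← pow_two]; exact hsq _ (Subgroup.mem_map_of_mem π hb)
      have ai : (π a)⁻¹ = π a := inv_eq_of_mul_eq_one_right a2
      have bi : (π b)⁻¹ = π b := inv_eq_of_mul_eq_one_right b2
      have a3 : ∀ w, π a * (π a * w) = w := fun w => by rw [← mul_assoc, a2, one_mul]
      have b3 : ∀ w, π b * (π b * w) = w := fun w => by rw [← mul_assoc, b2, one_mul]
      have ab3 : ∀ w, π b * (π a * w) = π a * (π b * w) := fun w => by
        rw [← mul_assoc, hab', mul_assoc]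
      induction hx using Subgroup.closure_induction with
      | mem y hy => rcases hy with rfl | rfl <;> simp
      | one => simp
      | mul y w _ _ iy iw =>
        simp only [Finset.coe_insert, Finset.coe_singleton, Set.mem_insert_iff,
          Set.mem_singleton_iff] at iy iw ⊢
        rcases iy with rfl | rfl | rfl | rfl <;> rcases iw with rfl | rfl | rfl | rfl <;>
          simp [mul_assoc, a2, b2, a3, b3, hab', ab3]
      | inv y _ iy =>
        simp only [Finset.coe_insert, Finset.coe_singleton, Set.mem_insert_iff,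
          Set.mem_singleton_iff] at iy ⊢
        rcases iy with rfl | rfl | rfl | rfl <;> simp [ai, bi, hab']
    refine lt_of_le_of_lt ?_ (by norm_num : 4 < 16)
    rw [← SetLike.coe_sort_coe, Nat.card_coe_set_eq]
    refine (Set.ncard_le_ncard hsub (Finset.finite_toSet _)).trans ?_
    rw [Set.ncard_coe_finset]
    exact Finset.card_le_four)
  have hmema : π a ∈ Subgroup.closure {π a, π b} := Subgroup.subset_closure (by simp)
  have hmemb : π b ∈ Subgroup.closure {π a, π b} := Subgroup.subset_closure (by simp)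
  have hd1' : π d ≠ 1 := fun h => hd1 (h ▸ one_mem _)
  have had : π (a * d) ≠ 1 := fun h => hd1 (by
    rw [map_mul] at h; rw [eq_inv_of_mul_eq_one_right h]; exact inv_mem hmema)
  have hbd : π (b * d) ≠ 1 := fun h => hd1 (by
    rw [map_mul] at h; rw [eq_inv_of_mul_eq_one_right h]; exact inv_mem hmemb)
  have habd : π (a * (b * d)) ≠ 1 := fun h => hd1 (by
    rw [map_mul, map_mul, ← mul_assoc] at h; rw [eq_inv_of_mul_eq_one_right h]
    exact inv_mem (mul_mem hmema hmemb))
  have hc1 : c = 1 := by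
    have e1 := hpair a ha (b * d) (mul_mem hb hd) ha1' hbd habd
    have e2 : b * d * a = a * (b * d) * (c * c) := by
      calc b * d * a = b * (d * a) := by group
        _ = b * (a * d * c) := by rw [hpair a ha d hd ha1' hd1' had]
        _ = (b * a) * d * c := by group
        _ = (a * b * c) * d * c := by rw [hpair a ha b hb ha1' hb1' hab]
        _ = a * b * (c * d) * c := by group
        _ = a * b * (d * c) * c := by rw [hcentral c hc2 d]
        _ = a * (b * d) * (c * c) := by group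
    rw [e1, ← pow_two c, hZ c hc2] at e2
    exact mul_left_cancel e2
  have hexp : ∀ h ∈ H, h ^ 2 = 1 := by
    intro h hh
    by_cases h1 : π h = 1
    · exact hZ h (hker ▸ h1)
    · rw [pow_two, hall h hh h1, hc1]
  refine ⟨⟨⟨fun x y => Subtype.ext ?_⟩⟩, hexp⟩
  have e1 := hexp _ (mul_mem x.2 y.2)
  have e2 := hexp _ x.2
  have e3 := hexp _ y.2
  rw [pow_two] at e1 e2 e3
  calc (x : X) * y = ((x : X) * y)⁻¹ := eq_inv_of_mul_eq_one_left e1
    _ = y * x := by rw [mul_inv_rev, inv_eq_of_mul_eq_one_right e2, inv_eq_of_mul_eq_one_right e3]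

/-- The normaliser of the preimage splits. -/
theorem exists_complement_lift {F : Type*} [Field F] (hπ : Function.Surjective π)
    (hker : π.ker = Subgroup.center X) (T : Sylow 2 X) {H K : Subgroup X} (hHT : H ≤ T)
    (hZH : Subgroup.center X ≤ H)
    (hH : Cfsg.IsElementaryAbelian 2 H) (hK : Cfsg.IsElementaryAbelian 2 K)
    (hgood : Good F (H.map π)) (hsup : H ⊔ K = (T : Subgroup X))
    (hnorm : (T : Subgroup X).map π ≤ Subgroup.normalizer ((H.map π : Subgroup L) : Set L)) :
    ∃ C : Subgroup X, C ≤ Subgroup.normalizer (H : Set X) ∧ C ⊓ H = ⊥ ∧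
      H ⊔ C = Subgroup.normalizer (H : Set X) ∧
      Nonempty (↥C ≃* Matrix.ProjectiveSpecialLinearGroup (Fin 2) F) := by
  classical
  haveI : Fact (Nat.Prime 2) := ⟨Nat.prime_two⟩
  have hHeq : (H.map π).comap π = H := Subgroup.comap_map_eq_self (hker ▸ hZH)
  have hN : Subgroup.normalizer (H : Set X) =
      (Subgroup.normalizer ((H.map π : Subgroup L) : Set L)).comap π := by
    rw [Subgroup.comap_normalizer_eq_of_surjective _ hπ, hHeq]
  set N := Subgroup.normalizer (H : Set X) with hNdef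
  have hTN : (T : Subgroup X) ≤ N := by
    rw [hN]
    exact Subgroup.map_le_iff_le_comap.1 hnorm
  haveI : (H.subgroupOf N).Normal := Subgroup.normal_in_normalizer
  haveI : IsMulCommutative H := hH.1
  -- a complement in the Sylow subgroup
  obtain ⟨D, hD⟩ := (Set.toFinite {D : Subgroup X | D ≤ K ∧ D ⊓ H = ⊥}).exists_maximal
    ⟨⊥, bot_le, bot_inf_eq _⟩
  have hDT : H ⊔ D = (T : Subgroup X) := by
    refine le_antisymm (sup_le hHT (hD.1.1.trans (hsup ▸ le_sup_right))) ?_
    rw [← hsup]
    refine sup_le le_sup_left fun k hk => ?_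
    by_contra hk'
    have hkk : k * k = 1 := by rw [← pow_two]; exact hK.2 k hk
    let D' : Subgroup X :=
      { carrier := {x | ∃ d ∈ D, x = d ∨ x = d * k}
        one_mem' := ⟨1, one_mem _, Or.inl rfl⟩
        inv_mem' := by
          rintro x ⟨d, hd, hx⟩
          have hc : d * k = k * d := congrArg Subtype.val
            ((hK.1.is_comm.comm ⟨d, hD.1.1 hd⟩ ⟨k, hk⟩))
          rcases hx with hx | hx <;> rw [hx]
          · exact ⟨d⁻¹, inv_mem hd, Or.inl rfl⟩
          · refine ⟨d⁻¹, inv_mem hd, Or.inr ?_⟩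
            rw [hc, mul_inv_rev, inv_eq_of_mul_eq_one_right hkk]
        mul_mem' := by
          rintro x y ⟨d, hd, hx⟩ ⟨e, he, hy⟩
          have hc : k * e = e * k := congrArg Subtype.val
            ((hK.1.is_comm.comm ⟨k, hk⟩ ⟨e, hD.1.1 he⟩))
          rcases hx with hx | hx <;> rcases hy with hy | hy <;> rw [hx, hy]
          · exact ⟨_, mul_mem hd he, Or.inl rfl⟩
          · exact ⟨_, mul_mem hd he, Or.inr (by group)⟩
          · exact ⟨_, mul_mem hd he, Or.inr (by rw [mul_assoc, hc]; group)⟩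
          · refine ⟨_, mul_mem hd he, Or.inl ?_⟩
            calc d * k * (e * k) = d * (k * e) * k := by group
              _ = d * (e * k) * k := by rw [hc]
              _ = d * e * (k * k) := by group
              _ = d * e := by rw [hkk, mul_one] }
    have hD' : D' ≤ K ∧ D' ⊓ H = ⊥ := by
      refine ⟨?_, eq_bot_iff.2 ?_⟩
      · rintro x ⟨d, hd, rfl | rfl⟩
        exacts [hD.1.1 hd, mul_mem (hD.1.1 hd) hk]
      · rintro x ⟨⟨d, hd, rfl | rfl⟩, hx⟩
        · exact hD.1.2 ▸ ⟨hd, hx⟩
        · refine absurd ?_ hk'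
          have : k = d⁻¹ * (d * k) := by group
          rw [this]
          exact mul_mem (Subgroup.mem_sup_right (inv_mem hd)) (Subgroup.mem_sup_left hx)
    exact hk' (Subgroup.mem_sup_right (hD.2 hD' (fun d hd => ⟨d, hd, Or.inl rfl⟩)
      ⟨1, one_mem _, Or.inr (one_mul k).symm⟩))
  have hDN : D ≤ N := (le_sup_right.trans hDT.le).trans hTN
  obtain ⟨C₀, hC₀⟩ := Lib.Cores.Gaschutz.exists_complement (K := H.subgroupOf N)
    (U := (T : Subgroup X).subgroupOf N) (A := D.subgroupOf N) (Subgroup.comap_mono hHT) (by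
      obtain ⟨j, hj⟩ := IsPGroup.iff_card.1 (T.2.to_le hHT)
      rw [Nat.card_congr (Subgroup.subgroupOfEquivOfLe (hHT.trans hTN)).toEquiv, hj]
      refine Nat.Coprime.pow_left _ ((Nat.Prime.coprime_iff_not_dvd Nat.prime_two).2 fun h => ?_)
      exact T.not_dvd_index (h.trans (Subgroup.relIndex_dvd_index_of_le hTN)))
    (by
      rw [eq_bot_iff]
      rintro x ⟨h1, h2⟩
      have : (x : X) ∈ D ⊓ H := ⟨h1, h2⟩
      rw [hD.1.2, Subgroup.mem_bot] at this
      exact Subgroup.mem_bot.2 (Subtype.ext this))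
    (by rw [← Subgroup.subgroupOf_sup (hHT.trans hTN) hDN, hDT])
  obtain ⟨f, hf, hfker⟩ := hgood.quot
  let πN : N →* Subgroup.normalizer ((H.map π : Subgroup L) : Set L) :=
    (π.comp N.subtype).codRestrict _ fun x => by
      exact hN.le x.2
  let φ : C₀ →* Matrix.ProjectiveSpecialLinearGroup (Fin 2) F := (f.comp πN).comp C₀.subtype
  have hk : ∀ x : N, f (πN x) = 1 ↔ (x : X) ∈ H := fun x => by
    rw [← MonoidHom.mem_ker, hfker, Subgroup.mem_subgroupOf]
    change π (x : X) ∈ H.map π ↔ _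
    rw [← Subgroup.mem_comap, hHeq]
  have hbij : Function.Bijective φ := by
    refine ⟨(injective_iff_map_eq_one φ).2 fun x hx => ?_, fun y => ?_⟩
    · have h1 : (x : N) ∈ H.subgroupOf N ⊓ C₀ := ⟨(hk _).1 hx, x.2⟩
      rw [hC₀.disjoint.eq_bot, Subgroup.mem_bot] at h1
      exact Subtype.ext h1
    · obtain ⟨z, hz⟩ := hf y
      obtain ⟨x, hx⟩ := hπ z.1
      have hxN : x ∈ N := by rw [hN, Subgroup.mem_comap, hx]; exact z.2
      obtain ⟨⟨h, c⟩, hhc⟩ := hC₀.2 ⟨x, hxN⟩
      refine ⟨c, ?_⟩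
      rw [← hz, ← show πN ⟨x, hxN⟩ = z from Subtype.ext hx, ← hhc]
      simp only [map_mul, (hk _).2 h.2, one_mul]
      rfl
  refine ⟨C₀.map N.subtype, Subgroup.map_subtype_le _, ?_, ?_, ⟨?_⟩⟩
  · rw [eq_bot_iff]
    rintro _ ⟨⟨c, hc, rfl⟩, hcH⟩
    have h1 : c ∈ H.subgroupOf N ⊓ C₀ := ⟨hcH, hc⟩
    rw [hC₀.disjoint.eq_bot, Subgroup.mem_bot] at h1
    rw [h1, map_one]
    exact one_mem _
  · refine le_antisymm (sup_le (hHT.trans hTN) (Subgroup.map_subtype_le _)) fun x hx => ?_
    obtain ⟨⟨h, c⟩, hhc⟩ := hC₀.2 ⟨x, hx⟩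
    rw [show x = ((h : N) : X) * ((c : N) : X) from congrArg Subtype.val hhc.symm]
    exact mul_mem (Subgroup.mem_sup_left h.2) (Subgroup.mem_sup_right ⟨_, c.2, rfl⟩)
  · exact (C₀.equivMapOfInjective _ N.subtype_injective).symm.trans (MulEquiv.ofBijective φ hbij)

end Cfsg.Agent.Lib.CoverL34
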