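import Cfsg.Agent.Lib.Golay.PSL34
import Mathlib.FieldTheory.Finite.Extension
import Cfsg.Prelude.Def_Transfer

/-!
# The two elementary abelian subgroups of order 16 in a Sylow 2-subgroup of `PSL 3 4`
-/

set_option autoImplicit false

namespace Cfsg.Agent.Lib.CoverL34

open Matrix

section Def

variable {P : Type*} [Group P]

/-- What is needed from a normal-translation subgroup of order 16. -/
structure Good (F : Type*) [Field F] (E : Subgroup P) : Prop where
  card : Nat.card E = 16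
  trans : ∀ x ∈ E, ∀ y ∈ E, x ≠ 1 → y ≠ 1 →
    ∃ g ∈ Subgroup.normalizer (E : Set P), g * x * g⁻¹ = y
  quot : ∃ f : Subgroup.normalizer (E : Set P) →* Matrix.ProjectiveSpecialLinearGroup (Fin 2) F,
    Function.Surjective f ∧ f.ker = E.subgroupOf _

theorem Good.map {F : Type*} [Field F] {E : Subgroup P} (h : Good F E) {Q : Type*} [Group Q]
    (e : P ≃* Q) : Good F (E.map e.toMonoidHom) := by
  have hN : (Subgroup.normalizer (E : Set P)).map e.toMonoidHom =
      Subgroup.normalizer ((E.map e.toMonoidHom : Subgroup Q) : Set Q) :=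
    Subgroup.map_equiv_normalizer_eq E e
  refine ⟨(Subgroup.card_map_of_injective (f := e.toMonoidHom) e.injective).trans h.card, ?_, ?_⟩
  · rintro _ ⟨x, hx, rfl⟩ _ ⟨y, hy, rfl⟩ hx1 hy1
    obtain ⟨g, hg, hgy⟩ := h.trans x hx y hy (fun h => hx1 (by simp [h])) (fun h => hy1 (by simp [h]))
    refine ⟨e g, hN ▸ ⟨g, hg, rfl⟩, ?_⟩
    simp [← hgy]
  · obtain ⟨f, hf, hker⟩ := h.quot
    let i := (e.subgroupMap (Subgroup.normalizer (E : Set P))).trans (MulEquiv.subgroupCongr hN)
    refine ⟨f.comp i.symm.toMonoidHom, hf.comp i.symm.surjective, ?_⟩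
    ext x
    obtain ⟨y, rfl⟩ := i.surjective x
    rw [MonoidHom.mem_ker, MonoidHom.comp_apply, MulEquiv.coe_toMonoidHom, i.symm_apply_apply,
      ← MonoidHom.mem_ker, hker, Subgroup.mem_subgroupOf, Subgroup.mem_subgroupOf]
    change (y : P) ∈ E ↔ e (y : P) ∈ E.map e.toMonoidHom
    exact (Subgroup.mem_map_iff_mem (f := e.toMonoidHom) e.injective).symm

end Def

variable {F : Type*} [Field F] [Fintype F]

/-- The special linear group. -/
local notation "SL3" => Matrix.SpecialLinearGroup (Fin 3) F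

/-- The projective special linear group. -/
local notation "L" => Matrix.ProjectiveSpecialLinearGroup (Fin 3) F

/-- The quotient map. -/
local notation "pr" => QuotientGroup.mk' (Subgroup.center (Matrix.SpecialLinearGroup (Fin 3) F))

/-- Upper unitriangular matrices. -/
def uni (a b c : F) : SL3 := ⟨!![1, a, b; 0, 1, c; 0, 0, 1], by simp [Matrix.det_fin_three]⟩

omit [Fintype F] in
theorem uni_val (a b c : F) : (uni a b c).1 = !![1, a, b; 0, 1, c; 0, 0, 1] := rfl

omit [Fintype F] in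
theorem sl3_mul (g h : SL3) (i j : Fin 3) :
    (g * h).1 i j = g.1 i 0 * h.1 0 j + g.1 i 1 * h.1 1 j + g.1 i 2 * h.1 2 j := by
  rw [Matrix.SpecialLinearGroup.coe_mul, Matrix.mul_apply, Fin.sum_univ_three]

omit [Fintype F] in
theorem uni_mul (a b c a' b' c' : F) :
    uni a b c * uni a' b' c' = uni (a + a') (b + b' + a * c') (c + c') := by
  apply Matrix.SpecialLinearGroup.ext
  intro i j
  rw [sl3_mul, uni_val, uni_val, uni_val]
  fin_cases i <;> fin_cases j <;> simp <;> ring

omit [Fintype F] in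
theorem uni_zero : uni (F := F) 0 0 0 = 1 := by
  apply Matrix.SpecialLinearGroup.ext
  intro i j
  fin_cases i <;> fin_cases j <;> simp [uni]

omit [Fintype F] in
theorem scalar_of_mem_center {g : SL3} (hg : g ∈ Subgroup.center SL3) :
    ∃ r : F, r ^ 3 = 1 ∧ ∀ i j, g i j = if i = j then r else 0 := by
  obtain ⟨r, hr, h⟩ := Matrix.SpecialLinearGroup.mem_center_iff.1 hg
  refine ⟨r, by simpa using hr, fun i j => ?_⟩
  rw [← h, Matrix.scalar_apply, Matrix.diagonal_apply]

omit [Fintype F] in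
theorem pr_uni_inj {a b c a' b' c' : F} (h : pr (uni a b c) = pr (uni a' b' c')) :
    a = a' ∧ b = b' ∧ c = c' := by
  rw [QuotientGroup.mk'_apply, QuotientGroup.mk'_apply, QuotientGroup.eq] at h
  obtain ⟨r, -, hr⟩ := scalar_of_mem_center h
  have key : ∀ i j, (uni a' b' c').1 i j = r * (uni a b c).1 i j := fun i j => by
    have h2 : (uni a' b' c') = uni a b c * ((uni a b c)⁻¹ * uni a' b' c') := by group
    rw [h2, sl3_mul]
    simp only [hr]
    fin_cases j <;> simp [mul_comm]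
  have h1 : r = 1 := by simpa [uni_val] using (key 0 0).symm
  subst h1
  exact ⟨by simpa [uni_val] using (key 0 1).symm, by simpa [uni_val] using (key 0 2).symm,
    by simpa [uni_val] using (key 1 2).symm⟩

variable (F) in
/-- The upper unitriangular group. -/
def U : Subgroup L where
  carrier := {x | ∃ a b c, x = pr (uni a b c)}
  mul_mem' := by
    rintro _ _ ⟨a, b, c, rfl⟩ ⟨a', b', c', rfl⟩
    exact ⟨_, _, _, by rw [← map_mul, uni_mul]⟩
  one_mem' := ⟨0, 0, 0, by rw [uni_zero, map_one]⟩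
  inv_mem' := by
    rintro _ ⟨a, b, c, rfl⟩
    refine ⟨-a, -b + a * c, -c, inv_eq_of_mul_eq_one_right ?_⟩
    rw [← map_mul, uni_mul, ← map_one (QuotientGroup.mk' (Subgroup.center SL3)), ← uni_zero]
    congr 1
    congr 1 <;> ring

variable (F) in
/-- The first translation group. -/
def E1 : Subgroup L where
  carrier := {x | ∃ a b, x = pr (uni a b 0)}
  mul_mem' := by
    rintro _ _ ⟨a, b, rfl⟩ ⟨a', b', rfl⟩
    exact ⟨a + a', b + b', by rw [← map_mul, uni_mul]; simp⟩
  one_mem' := ⟨0, 0, by rw [uni_zero, map_one]⟩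
  inv_mem' := by
    rintro _ ⟨a, b, rfl⟩
    refine ⟨-a, -b, inv_eq_of_mul_eq_one_right ?_⟩
    rw [← map_mul, uni_mul, ← map_one (QuotientGroup.mk' (Subgroup.center SL3)), ← uni_zero]
    congr 1
    congr 1 <;> ring

variable (F) in
/-- The second translation group. -/
def E2 : Subgroup L where
  carrier := {x | ∃ b c, x = pr (uni 0 b c)}
  mul_mem' := by
    rintro _ _ ⟨a, b, rfl⟩ ⟨a', b', rfl⟩
    exact ⟨a + a', b + b', by rw [← map_mul, uni_mul]; simp⟩
  one_mem' := ⟨0, 0, by rw [uni_zero, map_one]⟩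
  inv_mem' := by
    rintro _ ⟨a, b, rfl⟩
    refine ⟨-a, -b, inv_eq_of_mul_eq_one_right ?_⟩
    rw [← map_mul, uni_mul, ← map_one (QuotientGroup.mk' (Subgroup.center SL3)), ← uni_zero]
    congr 1
    congr 1 <;> ring

theorem card_L (hF : Fintype.card F = 4) : Nat.card L = 20160 := by
  haveI : Fact (Nat.Prime 2) := ⟨Nat.prime_two⟩
  have h4 : Fintype.card F = Fintype.card Golay.PSL34.F4 := by rw [hF, Golay.PSL34.F4.card_eq]
  obtain ⟨e⟩ := Golay.PSL34.psl_congr (FiniteField.ringEquivOfCardEq h4)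
  rw [Nat.card_congr e.toEquiv, Golay.PSL34.card_PSL]

theorem card_E1 (hF : Fintype.card F = 4) : Nat.card (E1 F) = 16 := by
  let f : F × F → E1 F := fun p => ⟨_, ⟨p.1, p.2, rfl⟩⟩
  have hf : Function.Bijective f := ⟨fun p q h => by
    obtain ⟨h1, h2, -⟩ := pr_uni_inj (congrArg Subtype.val h)
    exact Prod.ext h1 h2, fun ⟨_, a, b, rfl⟩ => ⟨(a, b), rfl⟩⟩
  rw [← Nat.card_congr (Equiv.ofBijective f hf), Nat.card_prod, Nat.card_eq_fintype_card, hF]

theorem card_E2 (hF : Fintype.card F = 4) : Nat.card (E2 F) = 16 := by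
  let f : F × F → E2 F := fun p => ⟨_, ⟨p.1, p.2, rfl⟩⟩
  have hf : Function.Bijective f := ⟨fun p q h => by
    obtain ⟨-, h1, h2⟩ := pr_uni_inj (congrArg Subtype.val h)
    exact Prod.ext h1 h2, fun ⟨_, a, b, rfl⟩ => ⟨(a, b), rfl⟩⟩
  rw [← Nat.card_congr (Equiv.ofBijective f hf), Nat.card_prod, Nat.card_eq_fintype_card, hF]

theorem card_U (hF : Fintype.card F = 4) : Nat.card (U F) = 64 := by
  let f : F × F × F → U F := fun p => ⟨_, ⟨p.1, p.2.1, p.2.2, rfl⟩⟩
  have hf : Function.Bijective f := ⟨fun p q h => by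
    obtain ⟨h1, h2, h3⟩ := pr_uni_inj (congrArg Subtype.val h)
    exact Prod.ext h1 (Prod.ext h2 h3), fun ⟨_, a, b, c, rfl⟩ => ⟨(a, b, c), rfl⟩⟩
  rw [← Nat.card_congr (Equiv.ofBijective f hf), Nat.card_prod, Nat.card_prod,
    Nat.card_eq_fintype_card, hF]

theorem exists_sylow_eq_U (hF : Fintype.card F = 4) : ∃ S : Sylow 2 L, (S : Subgroup L) = U F := by
  haveI : Fact (Nat.Prime 2) := ⟨Nat.prime_two⟩
  refine ⟨Sylow.ofCard (U F) ?_, rfl⟩
  rw [card_U hF, card_L hF, show (20160 : ℕ) = 2 ^ 6 * 315 by norm_num,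
    Nat.factorization_mul (by norm_num) (by norm_num), Finsupp.add_apply,
    Nat.Prime.factorization_pow Nat.prime_two, Finsupp.single_eq_same,
    Nat.factorization_eq_zero_of_not_dvd (by norm_num : ¬ 2 ∣ 315)]
  norm_num

/-- An elementary abelian subgroup of order 16 of `U` is one of the translation groups. -/
theorem eq_E1_or_E2 (hF : Fintype.card F = 4) [CharP F 2] {A : Subgroup L} (hA : A ≤ U F)
    (hsq : ∀ x ∈ A, x ^ 2 = 1) (h16 : Nat.card A = 16) : A = E1 F ∨ A = E2 F := by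
  have hmem : ∀ x ∈ A, x ∈ E1 F ∨ x ∈ E2 F := by
    intro x hx
    obtain ⟨a, b, c, rfl⟩ := hA hx
    have h := hsq _ hx
    rw [← map_pow, pow_two, uni_mul, ← map_one (QuotientGroup.mk' (Subgroup.center SL3)),
      ← uni_zero] at h
    have h2 := (pr_uni_inj h).2.1
    rw [CharTwo.add_self_eq_zero, zero_add, mul_eq_zero] at h2
    rcases h2 with rfl | rfl
    · exact Or.inr ⟨b, c, rfl⟩
    · exact Or.inl ⟨a, b, rfl⟩
  by_cases h1 : A ≤ E1 F
  · exact Or.inl (Subgroup.eq_of_le_of_card_ge h1 (by rw [card_E1 hF, h16]))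
  right
  refine Subgroup.eq_of_le_of_card_ge ?_ (by rw [card_E2 hF, h16])
  obtain ⟨x, hx, hx1⟩ := SetLike.not_le_iff_exists.1 h1
  intro y hy
  rcases hmem y hy with hy1 | hy2
  · rcases hmem (x * y) (mul_mem hx hy) with h | h
    · exact absurd ((Subgroup.mul_mem_cancel_right _ hy1).1 h) hx1
    · exact (Subgroup.mul_mem_cancel_left _ ((hmem x hx).resolve_left hx1)).1 h
  · exact hy2

theorem center_U_le [CharP F 2] {x : L} (hx : x ∈ U F) (hc : ∀ y ∈ U F, y * x = x * y) :
    x ∈ E1 F ∧ x ∈ E2 F := by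
  obtain ⟨a, b, c, rfl⟩ := hx
  have h1 := hc (pr (uni 1 0 0)) ⟨_, _, _, rfl⟩
  have h2 := hc (pr (uni 0 0 1)) ⟨_, _, _, rfl⟩
  rw [← map_mul, ← map_mul, uni_mul, uni_mul] at h1 h2
  have e1 := (pr_uni_inj h1).2.1
  have e2 := (pr_uni_inj h2).2.1
  simp at e1 e2
  subst e1
  subst e2
  exact ⟨⟨0, b, rfl⟩, ⟨b, 0, rfl⟩⟩

theorem U_le_normalizer_E1 : U F ≤ Subgroup.normalizer (E1 F : Set L) := by
  intro g hg
  rw [Subgroup.mem_normalizer_iff]
  have key : ∀ g ∈ U F, ∀ x ∈ E1 F, g * x * g⁻¹ ∈ E1 F := by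
    rintro _ ⟨a, b, c, rfl⟩ _ ⟨a', b', rfl⟩
    refine ⟨a', b' - a' * c, ?_⟩
    rw [mul_inv_eq_iff_eq_mul, ← map_mul, ← map_mul, uni_mul, uni_mul]
    congr 1
    congr 1 <;> ring
  exact fun x => ⟨key g hg x, fun h => by simpa [mul_assoc] using key g⁻¹ (inv_mem hg) _ h⟩

variable (F) in
/-- Matrices fixing the first axis. -/
def P1 : Subgroup SL3 where
  carrier := {g | g 1 0 = 0 ∧ g 2 0 = 0}
  mul_mem' := by
    rintro g h ⟨g1, g2⟩ ⟨h1, h2⟩
    constructor <;>
      simp [g1, g2, h1, h2, sl3_mul]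
  one_mem' := by constructor <;> simp
  inv_mem' := by
    intro g hg
    obtain ⟨g1, g2⟩ := hg
    have h00 : g 0 0 ≠ 0 := fun h0 => by
      have := Matrix.det_eq_zero_of_column_eq_zero (A := g.1) 0 fun i => by fin_cases i <;> assumption
      rw [g.2] at this
      exact one_ne_zero this
    have key : ∀ i, (g⁻¹).1 i 0 * g 0 0 = if i = 0 then 1 else 0 := fun i => by
      have h := congrArg (fun M : SL3 => M.1 i 0) (inv_mul_cancel g)
      simp only [sl3_mul, g1, g2, mul_zero, add_zero, Matrix.SpecialLinearGroup.coe_one,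
        Matrix.one_apply] at h
      exact h
    exact ⟨(mul_eq_zero.1 (by simpa using key 1)).resolve_right h00,
      (mul_eq_zero.1 (by simpa using key 2)).resolve_right h00⟩

theorem conj_uni_mem [CharP F 2] {g : SL3} (hg : g ∈ P1 F) (a b : F) :
    pr g * pr (uni a b 0) * (pr g)⁻¹ ∈ E1 F := by
  obtain ⟨h1, h2⟩ := (P1 F).inv_mem hg
  obtain ⟨g1, g2⟩ := hg
  rw [← map_mul, ← map_inv, ← map_mul]
  refine ⟨g 0 0 * (a * (g⁻¹).1 1 1 + b * (g⁻¹).1 2 1),
    g 0 0 * (a * (g⁻¹).1 1 2 + b * (g⁻¹).1 2 2), congrArg _ ?_⟩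
  apply Matrix.SpecialLinearGroup.ext
  intro i j
  have hid : ∀ i j, g i 0 * (g⁻¹).1 0 j + g i 1 * (g⁻¹).1 1 j + g i 2 * (g⁻¹).1 2 j =
      if i = j then 1 else 0 := fun i j => by
    have h : (g * g⁻¹).1 i j = (1 : SL3).1 i j := by rw [mul_inv_cancel]
    rw [sl3_mul, Matrix.SpecialLinearGroup.coe_one, Matrix.one_apply] at h
    exact h
  have := hid i j
  fin_cases i <;> fin_cases j <;>
    simp [uni_val, sl3_mul, g1, g2, h1, h2] at this ⊢ <;>
    linear_combination this

theorem mem_normalizer_iff [CharP F 2] {g : SL3} :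
    pr g ∈ Subgroup.normalizer (E1 F : Set L) ↔ g ∈ P1 F := by
  constructor
  · intro h
    obtain ⟨a, b, hab⟩ := (Subgroup.mem_normalizer_iff.1 h _).1 ⟨1, 0, rfl⟩
    rw [mul_inv_eq_iff_eq_mul, ← map_mul, ← map_mul, QuotientGroup.mk'_apply,
      QuotientGroup.mk'_apply, QuotientGroup.eq] at hab
    obtain ⟨r, -, hr⟩ := scalar_of_mem_center hab
    have key : ∀ i j, (uni a b 0 * g).1 i j = r * (g * uni 1 0 0).1 i j := fun i j => by
      have h2 : uni a b 0 * g = g * uni 1 0 0 * ((g * uni 1 0 0)⁻¹ * (uni a b 0 * g)) := by group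
      rw [h2, sl3_mul]
      simp only [hr]
      fin_cases j <;> simp [mul_comm]
    have e10 := key 1 0
    have e20 := key 2 0
    have e11 := key 1 1
    have e21 := key 2 1
    have e12 := key 1 2
    have e22 := key 2 2
    simp [uni_val, sl3_mul]
      at e10 e20 e11 e21 e12 e22
    by_cases hr1 : r = 1
    · subst hr1
      exact ⟨by linear_combination -e11, by linear_combination -e21⟩
    · exact ⟨(mul_eq_zero.1 (show (r - 1) * g 1 0 = 0 by linear_combination -e10)).resolve_left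
        (sub_ne_zero.2 hr1),
        (mul_eq_zero.1 (show (r - 1) * g 2 0 = 0 by linear_combination -e20)).resolve_left
        (sub_ne_zero.2 hr1)⟩
  · intro hg
    rw [Subgroup.mem_normalizer_iff]
    refine fun x => ⟨?_, fun hx => ?_⟩
    · rintro ⟨a, b, rfl⟩
      exact conj_uni_mem hg a b
    · obtain ⟨a, b, hab⟩ := hx
      have h := conj_uni_mem ((P1 F).inv_mem hg) a b
      rw [← hab, map_inv] at h
      simpa [mul_assoc] using h

/-- The lower right block. -/
def blockA (g : SL3) : Matrix (Fin 2) (Fin 2) F := !![g.1 1 1, g.1 1 2; g.1 2 1, g.1 2 2]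

/-- Its determinant. -/
def dd (g : SL3) : F := g.1 1 1 * g.1 2 2 - g.1 1 2 * g.1 2 1

omit [Fintype F] in
theorem blockA_mul (g h : P1 F) :
    blockA (g * h : P1 F).1 = blockA g.1 * blockA h.1 ∧
      dd (g * h : P1 F).1 = dd g.1 * dd h.1 := by
  obtain ⟨g, g1, g2⟩ := g
  obtain ⟨h, h1, h2⟩ := h
  change blockA (g * h) = blockA g * blockA h ∧ dd (g * h) = dd g * dd h
  constructor
  · ext i j
    fin_cases i <;> fin_cases j <;>
      simp [blockA, sl3_mul, Matrix.mul_apply, Fin.sum_univ_two, g1, g2]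
  · simp only [dd, sl3_mul, g1, g2]
    ring

/-- The action on the translation group, normalised to determinant one. -/
def toSL2 (hF : Fintype.card F = 4) : P1 F →* Matrix.SpecialLinearGroup (Fin 2) F where
  toFun g := ⟨dd g.1 • blockA g.1, by
    have h := g.1.2
    rw [Matrix.det_fin_three] at h
    simp only [g.2.1, g.2.2, mul_zero, zero_mul, sub_zero, add_zero] at h
    have hd : dd g.1 ≠ 0 := fun h0 => zero_ne_one (α := F) (by
      rw [dd] at h0
      linear_combination -(g.1 0 0) * h0 + h)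
    have h3 := FiniteField.pow_card_sub_one_eq_one _ hd
    rw [hF] at h3
    rw [Matrix.det_smul, Matrix.det_fin_two]
    simp only [blockA, dd, Fintype.card_fin, Matrix.of_apply, Matrix.cons_val', Matrix.cons_val_zero,
      Matrix.cons_val_one, Matrix.empty_val', Matrix.cons_val_fin_one] at h3 ⊢
    linear_combination h3⟩
  map_one' := Subtype.ext (by
    change dd (1 : SL3) • blockA (1 : SL3) = (1 : Matrix (Fin 2) (Fin 2) F)
    ext i j
    fin_cases i <;> fin_cases j <;> simp [dd, blockA])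
  map_mul' g h := Subtype.ext (by
    change dd (g * h : P1 F).1 • blockA (g * h : P1 F).1 = (dd g.1 • blockA g.1) * (dd h.1 • blockA h.1)
    rw [(blockA_mul g h).1, (blockA_mul g h).2, Matrix.smul_mul, Matrix.mul_smul, smul_smul])

theorem toSL2_val (hF : Fintype.card F = 4) (g : P1 F) :
    (toSL2 hF g).1 = (g.1.1 1 1 * g.1.1 2 2 - g.1.1 1 2 * g.1.1 2 1) •
      !![g.1.1 1 1, g.1.1 1 2; g.1.1 2 1, g.1.1 2 2] := rfl

/-- A block diagonal matrix with first entry one. -/
def blk1 (x y z w : F) (h : x * w - y * z = 1) : SL3 :=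
  ⟨!![1, 0, 0; 0, x, y; 0, z, w], by simp [Matrix.det_fin_three]; linear_combination h⟩

omit [Fintype F] in
theorem blk1_val (x y z w : F) (h : x * w - y * z = 1) :
    (blk1 x y z w h).1 = !![1, 0, 0; 0, x, y; 0, z, w] := rfl

/-- A scalar matrix. -/
def scal (r : F) (hr : r ^ 3 = 1) : SL3 :=
  ⟨Matrix.scalar (Fin 3) r, by simpa [Matrix.det_diagonal] using hr⟩

omit [Fintype F] in
theorem scal_mem_center (r : F) (hr : r ^ 3 = 1) : scal r hr ∈ Subgroup.center SL3 :=
  Matrix.SpecialLinearGroup.mem_center_iff.2 ⟨r, by simpa using hr, rfl⟩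

omit [Fintype F] in
theorem scal_val (r : F) (hr : r ^ 3 = 1) (i j : Fin 3) :
    (scal r hr).1 i j = if i = j then r else 0 := Matrix.diagonal_apply (d := fun _ => r) i j

theorem center_SL2_eq_bot [CharP F 2] : Subgroup.center (Matrix.SpecialLinearGroup (Fin 2) F) = ⊥ := by
  rw [eq_bot_iff]
  intro g hg
  obtain ⟨r, hr, h⟩ := Matrix.SpecialLinearGroup.mem_center_iff.1 hg
  rw [Fintype.card_fin] at hr
  have h1 : r = 1 := CharTwo.sq_injective (by simpa using hr)
  exact Subgroup.mem_bot.2 (Subtype.ext (by rw [← h, h1, map_one]; rfl))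

theorem good_E1 (hF : Fintype.card F = 4) [CharP F 2] : Good F (E1 F) := by
  refine ⟨card_E1 hF, ?_, ?_⟩
  · have hbase : ∀ a b : F, pr (uni a b 0) ≠ 1 → ∃ g ∈ Subgroup.normalizer (E1 F : Set L),
        g * pr (uni 1 0 0) * g⁻¹ = pr (uni a b 0) := by
      intro a b hab
      obtain ⟨M, hM, hMu⟩ : ∃ M : SL3, M ∈ P1 F ∧ M * uni 1 0 0 = uni a b 0 * M := by
        by_cases ha : a = 0
        · subst ha
          have hb : b ≠ 0 := fun hb => hab (by rw [hb, uni_zero, map_one])
          refine ⟨blk1 0 b b⁻¹ 0 (by simp [hb, CharTwo.neg_eq]), ⟨rfl, rfl⟩, ?_⟩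
          apply Matrix.SpecialLinearGroup.ext
          intro i j
          rw [sl3_mul, sl3_mul, blk1_val, uni_val, uni_val]
          fin_cases i <;> fin_cases j <;> simp [hb]
        · refine ⟨blk1 a⁻¹ b 0 a (by simp [ha]), ⟨rfl, rfl⟩, ?_⟩
          apply Matrix.SpecialLinearGroup.ext
          intro i j
          rw [sl3_mul, sl3_mul, blk1_val, uni_val, uni_val]
          fin_cases i <;> fin_cases j <;> simp [ha]
          rw [mul_comm b a, CharTwo.add_self_eq_zero]
      refine ⟨pr M, mem_normalizer_iff.2 hM, ?_⟩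
      rw [mul_inv_eq_iff_eq_mul, ← map_mul, ← map_mul, hMu]
    rintro _ ⟨a, b, rfl⟩ _ ⟨a', b', rfl⟩ hx hy
    obtain ⟨g, hg, hgx⟩ := hbase a b hx
    obtain ⟨g', hg', hgy⟩ := hbase a' b' hy
    exact ⟨g' * g⁻¹, mul_mem hg' (inv_mem hg), by rw [← hgx, ← hgy]; group⟩
  · let ψ : P1 F →* Subgroup.normalizer (E1 F : Set L) :=
      ((QuotientGroup.mk' (Subgroup.center SL3)).comp (P1 F).subtype).codRestrict _
        fun g => mem_normalizer_iff.2 g.2
    have hψ : Function.Surjective ψ := by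
      rintro ⟨x, hx⟩
      obtain ⟨g, rfl⟩ := QuotientGroup.mk'_surjective _ x
      exact ⟨⟨g, mem_normalizer_iff.1 hx⟩, rfl⟩
    let φ := (QuotientGroup.mk' (Subgroup.center (Matrix.SpecialLinearGroup (Fin 2) F))).comp (toSL2 hF)
    have hker : ∀ g : P1 F, φ g = 1 ↔ pr (g : SL3) ∈ E1 F := by
      intro g
      simp only [φ, MonoidHom.comp_apply, QuotientGroup.mk'_apply, QuotientGroup.eq_one_iff,
        center_SL2_eq_bot, Subgroup.mem_bot]
      constructor
      · intro h
        set M : SL3 := g.1 with hM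
        obtain ⟨g1, g2⟩ := g.2
        change M.1 1 0 = 0 at g1
        change M.1 2 0 = 0 at g2
        have h' : ∀ i j, (toSL2 hF g) i j = (1 : Matrix.SpecialLinearGroup (Fin 2) F) i j := fun i j => by
          rw [h]
        have e00 := h' 0 0
        have e01 := h' 0 1
        have e10 := h' 1 0
        have e11 := h' 1 1
        simp [toSL2_val, ← hM] at e00 e01 e10 e11
        set d := M 1 1 * M 2 2 - M 1 2 * M 2 1 with hd
        have hd0 : d ≠ 0 := left_ne_zero_of_mul_eq_one e00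
        have m12 : M 1 2 = 0 := e01.resolve_left hd0
        have m21 : M 2 1 = 0 := e10.resolve_left hd0
        have m11 : M 2 2 = M 1 1 := mul_left_cancel₀ hd0 (by rw [e00, e11])
        have hdet := M.2
        rw [Matrix.det_fin_three] at hdet
        simp only [g1, g2, ← hM, mul_zero, zero_mul, sub_zero, add_zero, m12, m21] at hdet
        have h0 : M 0 0 = M 1 1 := by
          have hx : M 0 0 * d = 1 := by rw [hd, m12, m21]; linear_combination hdet
          exact mul_left_cancel₀ hd0 (by linear_combination hx - e00)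
        have hv : M 1 1 ≠ 0 := right_ne_zero_of_mul_eq_one e00
        refine ⟨M 0 1 / M 1 1, M 0 2 / M 1 1, QuotientGroup.eq.2 ?_⟩
        obtain ⟨c, hc, hcM⟩ : ∃ c : SL3, c ∈ Subgroup.center SL3 ∧
            uni (M 0 1 / M 1 1) (M 0 2 / M 1 1) 0 = M * c := by
          have hr : ((M 1 1)⁻¹) ^ 3 = 1 := by
            rw [inv_pow, inv_eq_one]
            rw [h0, m11] at hdet
            linear_combination hdet
          refine ⟨scal _ hr, scal_mem_center _ hr, ?_⟩
          apply Matrix.SpecialLinearGroup.ext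
          intro i j
          rw [uni_val, sl3_mul]
          simp only [scal_val]
          fin_cases i <;> fin_cases j <;>
            simp [g1, g2, m12, m21, m11, h0, hv, div_eq_mul_inv]
        rw [hcM, inv_mul_cancel_left]
        exact hc
      · rintro ⟨a, b, hab⟩
        replace hab := QuotientGroup.eq.1 hab
        obtain ⟨r, hr, hsc⟩ := scalar_of_mem_center ((Subgroup.inv_mem_iff _).2 hab)
        have hg : (g : SL3) = uni a b 0 * ((g.1)⁻¹ * uni a b 0)⁻¹ := by group
        have hent : ∀ i j, g.1.1 i j = r * (uni a b 0).1 i j := fun i j => by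
          rw [hg, sl3_mul]
          simp only [hsc]
          fin_cases j <;> simp [mul_comm]
        apply Matrix.SpecialLinearGroup.ext
        intro i j
        fin_cases i <;> fin_cases j <;> simp [toSL2_val, hent, uni_val] <;> linear_combination hr
    refine ⟨ψ.liftOfSurjective hψ ⟨φ, fun g hg => ?_⟩, ?_, ?_⟩
    · rw [MonoidHom.mem_ker] at hg ⊢
      have : pr (g : SL3) = 1 := congrArg Subtype.val hg
      exact (hker g).2 (this ▸ one_mem _)
    · intro y
      obtain ⟨M, rfl⟩ := QuotientGroup.mk'_surjective _ y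
      let g : SL3 := blk1 (M 0 0) (M 0 1) (M 1 0) (M 1 1) (by
        have h := M.2
        rwa [Matrix.det_fin_two] at h)
      refine ⟨ψ ⟨g, rfl, rfl⟩, ?_⟩
      rw [MonoidHom.liftOfRightInverse_comp_apply]
      refine congrArg (QuotientGroup.mk' _) ?_
      apply Matrix.SpecialLinearGroup.ext
      intro i j
      have h := M.2
      rw [Matrix.det_fin_two] at h
      fin_cases i <;> fin_cases j <;> simp [toSL2_val, g, blk1_val, h]
    · ext x
      obtain ⟨g, rfl⟩ := hψ x
      rw [MonoidHom.mem_ker, MonoidHom.liftOfRightInverse_comp_apply, Subgroup.mem_subgroupOf]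
      exact hker g

/-- The graph endomorphism of `SL 3`. -/
def sigmaHom : SL3 →* SL3 where
  toFun g := ⟨(g⁻¹).1.transpose.submatrix Fin.revPerm Fin.revPerm, by
    rw [Matrix.det_submatrix_equiv_self, Matrix.det_transpose]
    exact g⁻¹.2⟩
  map_one' := Subtype.ext (by simp)
  map_mul' g h := Subtype.ext (by
    change ((g * h)⁻¹).1.transpose.submatrix Fin.revPerm Fin.revPerm =
      (g⁻¹).1.transpose.submatrix Fin.revPerm Fin.revPerm * (h⁻¹).1.transpose.submatrix Fin.revPerm Fin.revPerm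
    rw [Matrix.submatrix_mul_equiv, ← Matrix.transpose_mul, ← Matrix.SpecialLinearGroup.coe_mul,
      _root_.mul_inv_rev])

omit [Fintype F] in
theorem sigmaHom_apply_apply (g : SL3) : sigmaHom (sigmaHom g) = g := by
  apply Matrix.SpecialLinearGroup.ext
  intro i j
  change ((sigmaHom g)⁻¹).1 (Fin.revPerm j) (Fin.revPerm i) = g.1 i j
  rw [← map_inv]
  change ((g⁻¹)⁻¹).1 (Fin.revPerm (Fin.revPerm i)) (Fin.revPerm (Fin.revPerm j)) = g.1 i j
  rw [inv_inv]
  simp

/-- The graph automorphism of `SL 3`. -/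
def sigma : SL3 ≃* SL3 :=
  { sigmaHom (F := F) with
    invFun := sigmaHom
    left_inv := sigmaHom_apply_apply
    right_inv := sigmaHom_apply_apply }

omit [Fintype F] in
theorem sigma_uni (a b : F) [CharP F 2] : sigma (uni a b 0) = uni 0 b a := by
  have hinv : (uni a b 0)⁻¹ = uni a b 0 := by
    refine inv_eq_of_mul_eq_one_right ?_
    rw [uni_mul, ← uni_zero]
    simp [CharTwo.add_self_eq_zero]
  apply Matrix.SpecialLinearGroup.ext
  intro i j
  change ((uni a b 0)⁻¹).1 (Fin.revPerm j) (Fin.revPerm i) = _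
  rw [hinv, uni_val, uni_val]
  fin_cases i <;> fin_cases j <;> simp [Fin.rev]

/-- The automorphism of `PSL 3`. -/
noncomputable def tau : L ≃* L := QuotientGroup.congr _ _ sigma (Golay.PSL34.map_center sigma)

omit [Fintype F] in
theorem map_tau_E1 [CharP F 2] : (E1 F).map (tau (F := F)).toMonoidHom = E2 F := by
  ext x
  constructor
  · rintro ⟨_, ⟨a, b, rfl⟩, rfl⟩
    exact ⟨b, a, congrArg (QuotientGroup.mk' _) (sigma_uni a b)⟩
  · rintro ⟨b, c, rfl⟩
    exact ⟨_, ⟨c, b, rfl⟩, congrArg (QuotientGroup.mk' _) (sigma_uni c b)⟩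

theorem good_E2 (hF : Fintype.card F = 4) [CharP F 2] : Good F (E2 F) := by
  rw [← map_tau_E1]
  exact (good_E1 hF).map _

/-- The facts used about elementary abelian subgroups of order 16 in a Sylow 2-subgroup. -/
theorem main (hF : Fintype.card F = 4) (S : Sylow 2 L) (H K : Subgroup L) (hne : H ≠ K)
    (hH : H ≤ S) (hK : K ≤ S) (hH2 : ∀ x ∈ H, x ^ 2 = 1) (hK2 : ∀ x ∈ K, x ^ 2 = 1)
    (hH16 : Nat.card H = 16) (hK16 : Nat.card K = 16) :
    Good F H ∧ Good F K ∧ H ⊔ K = (S : Subgroup L) ∧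
      (S : Subgroup L) ≤ Subgroup.normalizer (H : Set L) ∧
      ∀ x ∈ (S : Subgroup L), (∀ y ∈ (S : Subgroup L), y * x = x * y) → x ∈ H ∧ x ∈ K := by
  haveI : Fact (Nat.Prime 2) := ⟨Nat.prime_two⟩
  haveI : CharP F 2 := by
    obtain ⟨p, hp, m, hprime, hcard⟩ := FiniteField.card' F
    rw [hF] at hcard
    have h2 : p ∣ 2 ^ 2 := by
      rw [show (2 : ℕ) ^ 2 = 4 by norm_num, hcard]
      exact dvd_pow_self p m.ne_zero
    rwa [(Nat.prime_dvd_prime_iff_eq hprime Nat.prime_two).1 (hprime.dvd_of_dvd_pow h2)] at hp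
  obtain ⟨S₀, hS₀⟩ := exists_sylow_eq_U (F := F) hF
  obtain ⟨g, hg⟩ := MulAction.exists_smul_eq L S S₀
  let e : L ≃* L := MulAut.conj g
  have hSe : (S : Subgroup L).map e.toMonoidHom = U F := by
    rw [← hS₀, ← hg, Sylow.coe_subgroup_smul]
    rfl
  have hmapH : ∀ A : Subgroup L, A ≤ S → (∀ x ∈ A, x ^ 2 = 1) → Nat.card A = 16 →
      A.map e.toMonoidHom = E1 F ∨ A.map e.toMonoidHom = E2 F := by
    intro A hA h2 h16
    refine eq_E1_or_E2 hF (hSe ▸ Subgroup.map_mono hA) ?_
      ((Subgroup.card_map_of_injective (f := e.toMonoidHom) e.injective).trans h16)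
    rintro _ ⟨x, hx, rfl⟩
    rw [← map_pow, h2 x hx, map_one]
  have hinj := Subgroup.map_injective (f := e.toMonoidHom) e.injective
  have hback : ∀ A : Subgroup L, (A.map e.toMonoidHom).map e.symm.toMonoidHom = A := fun A => by
    rw [Subgroup.map_map]
    convert Subgroup.map_id A using 2
    ext x
    simp
  have hgood : ∀ A : Subgroup L, (A.map e.toMonoidHom = E1 F ∨ A.map e.toMonoidHom = E2 F) →
      Good F A := by
    intro A h
    rw [← hback A]
    rcases h with h | h <;> rw [h]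
    exacts [(good_E1 hF).map _, (good_E2 hF).map _]
  have hHe := hmapH H hH hH2 hH16
  have hKe := hmapH K hK hK2 hK16
  have hboth : (H.map e.toMonoidHom = E1 F ∧ K.map e.toMonoidHom = E2 F) ∨
      (H.map e.toMonoidHom = E2 F ∧ K.map e.toMonoidHom = E1 F) := by
    rcases hHe with h | h <;> rcases hKe with h' | h'
    · exact absurd (hinj (h.trans h'.symm)) hne
    · exact Or.inl ⟨h, h'⟩
    · exact Or.inr ⟨h, h'⟩
    · exact absurd (hinj (h.trans h'.symm)) hne
  have hsup : E1 F ⊔ E2 F = U F := by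
    refine le_antisymm (sup_le ?_ ?_) ?_
    · rintro _ ⟨a, b, rfl⟩; exact ⟨a, b, 0, rfl⟩
    · rintro _ ⟨b, c, rfl⟩; exact ⟨0, b, c, rfl⟩
    · rintro _ ⟨a, b, c, rfl⟩
      have : uni a b c = uni 0 b c * uni a 0 0 := by rw [uni_mul]; congr 1 <;> ring
      rw [this, map_mul]
      exact mul_mem (Subgroup.mem_sup_right ⟨b, c, rfl⟩) (Subgroup.mem_sup_left ⟨a, 0, rfl⟩)
  refine ⟨hgood H hHe, hgood K hKe, hinj ?_, ?_, fun x hx hc => ?_⟩
  · rw [Subgroup.map_sup, hSe]
    rcases hboth with ⟨h, h'⟩ | ⟨h, h'⟩ <;> rw [h, h']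
    · exact hsup
    · rw [sup_comm]; exact hsup
  · have hn : U F ≤ Subgroup.normalizer (E2 F : Set L) := by
      intro x hx
      obtain ⟨a, b, c, rfl⟩ := hx
      rw [Subgroup.mem_normalizer_iff]
      have key : ∀ g ∈ U F, ∀ x ∈ E2 F, g * x * g⁻¹ ∈ E2 F := by
        rintro _ ⟨a, b, c, rfl⟩ _ ⟨b', c', rfl⟩
        refine ⟨b' + a * c', c', ?_⟩
        rw [mul_inv_eq_iff_eq_mul, ← map_mul, ← map_mul, uni_mul, uni_mul]
        congr 1
        congr 1 <;> ring
      exact fun x => ⟨key _ ⟨a, b, c, rfl⟩ x, fun h => by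
        simpa [mul_assoc] using key _ (inv_mem (⟨a, b, c, rfl⟩ : pr (uni a b c) ∈ U F)) _ h⟩
    intro x hx
    rw [← Subgroup.mem_map_iff_mem (f := e.toMonoidHom) e.injective, Subgroup.map_equiv_normalizer_eq]
    have hxU : e x ∈ U F := hSe ▸ Subgroup.mem_map_of_mem _ hx
    rcases hboth with ⟨h, -⟩ | ⟨h, -⟩ <;> rw [h]
    exacts [U_le_normalizer_E1 hxU, hn hxU]
  · have hxU : e x ∈ U F := hSe ▸ Subgroup.mem_map_of_mem _ hx
    have h12 := center_U_le hxU (fun y hy => by
      rw [← hSe] at hy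
      obtain ⟨y, hy, rfl⟩ := hy
      simp only [MulEquiv.coe_toMonoidHom, ← map_mul, hc y hy])
    rw [← Subgroup.mem_map_iff_mem (f := e.toMonoidHom) e.injective (K := H),
      ← Subgroup.mem_map_iff_mem (f := e.toMonoidHom) e.injective (K := K)]
    rcases hboth with ⟨h, h'⟩ | ⟨h, h'⟩ <;> rw [h, h']
    exacts [h12, h12.symm]

end Cfsg.Agent.Lib.CoverL34
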